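import Cfsg.Prelude.Def_Perm
import Cfsg.Agent.Lib.Invol.ConjSubgroups.Main
import Cfsg.Agent.Lib.Classical.PSLBinary
import Cfsg.Agent.S4020

/-!
# Groups with p-subgroups of equal order conjugate: quotients, involutions, socle, normal Sylow subgroup
-/

set_option autoImplicit false
set_option linter.unusedSectionVars false
set_option linter.style.haveILetI false

namespace Cfsg.Agent.Invol.AbelTwo.EqualP

open Subgroup
open scoped _root_.Classical

universe u

/-- p-subgroups of equal order are conjugate. -/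
def PConj (G : Type u) [Group G] : Prop :=
  ∀ p : ℕ, p.Prime → ∀ H K : Subgroup G, IsPGroup p H → IsPGroup p K → Nat.card H = Nat.card K →
    ∃ g : G, K = H.map (MulAut.conj g).toMonoidHom

variable {G : Type u} [Group G] [Finite G]

theorem PConj.quotient (h : PConj G) (N : Subgroup G) [N.Normal] : PConj (G ⧸ N) := by
  intro p hp H K hH hK hHK
  haveI := Fact.mk hp
  let π := QuotientGroup.mk' N
  have hπ : Function.Surjective π := QuotientGroup.mk'_surjective N
  -- a Sylow subgroup of the preimage maps onto a p-subgroup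
  have lift : ∀ A : Subgroup (G ⧸ N), IsPGroup p A → ∃ P : Subgroup G, IsPGroup p P ∧ P.map π = A ∧
      Nat.card P = p ^ (Nat.card A * Nat.card N).factorization p := by
    intro A hA
    set B := A.comap π with hB
    have hBcard : Nat.card B = Nat.card A * Nat.card N := by
      refine Nat.eq_of_mul_eq_mul_right (Nat.pos_of_ne_zero A.index_ne_zero_of_finite) ?_
      calc Nat.card B * A.index = Nat.card B * B.index := by rw [hB, index_comap_of_surjective _ hπ]
        _ = Nat.card (G ⧸ N) * Nat.card N := by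
          rw [B.card_mul_index, N.card_eq_card_quotient_mul_card_subgroup]
        _ = _ := by rw [← A.card_mul_index]; ring
    let π' : ↥B →* ↥A := (π.comp B.subtype).codRestrict A fun b => b.2
    have hπ' : Function.Surjective π' := fun a => by
      obtain ⟨g, hg⟩ := hπ (a : G ⧸ N)
      exact ⟨⟨g, show π g ∈ A from hg.symm ▸ a.2⟩, Subtype.ext hg⟩
    obtain ⟨P⟩ : Nonempty (Sylow p B) := inferInstance
    refine ⟨(P : Subgroup B).map B.subtype, P.isPGroup'.map _, ?_, ?_⟩
    · obtain ⟨k, hk⟩ := hA.exists_card_eq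
      have htop : ((P.mapSurjective hπ' : Sylow p A) : Subgroup A) = ⊤ := by
        refine ((P.mapSurjective hπ').is_maximal' (Q := ⊤) (IsPGroup.of_card (n := k) (by rw [card_top, hk])) le_top).symm
      refine le_antisymm ?_ fun a ha => ?_
      · rintro _ ⟨_, ⟨b, -, rfl⟩, rfl⟩
        exact b.2
      · have ha' : (⟨a, ha⟩ : ↥A) ∈ (P : Subgroup B).map π' := by
          rw [show (P : Subgroup B).map π' = ((P.mapSurjective hπ' : Sylow p A) : Subgroup A) from rfl, htop]
          exact mem_top _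
        obtain ⟨b, hb, hba⟩ := ha'
        exact ⟨b, ⟨b, hb, rfl⟩, congrArg Subtype.val hba⟩
    · rw [card_map_of_injective B.subtype_injective, P.card_eq_multiplicity, hBcard]
  obtain ⟨P, hP, hPH, hPc⟩ := lift H hH
  obtain ⟨Q, hQ, hQK, hQc⟩ := lift K hK
  obtain ⟨g, hg⟩ := h p hp P Q hP hQ (by rw [hPc, hQc, hHK])
  refine ⟨π g, ?_⟩
  rw [← hQK, ← hPH, hg, Subgroup.map_map, Subgroup.map_map]
  exact congrArg (fun f => P.map f) (MonoidHom.ext fun x => by simp [π])

theorem PConj.mem_normal (h : PConj G) {M : Subgroup G} (hM : M.Normal) {p : ℕ} (hp : p.Prime) {x y : G}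
    (hx : orderOf x = p) (hy : orderOf y = p) (hyM : y ∈ M) : x ∈ M := by
  have hz : ∀ z : G, orderOf z = p → IsPGroup p (zpowers z) := fun z hz =>
    IsPGroup.of_card (n := 1) (by rw [Nat.card_zpowers, hz, pow_one])
  obtain ⟨g, hg⟩ := h p hp (zpowers y) (zpowers x) (hz y hy) (hz x hx) (by rw [Nat.card_zpowers, Nat.card_zpowers, hx, hy])
  obtain ⟨w, hw, hwx⟩ : x ∈ (zpowers y).map (MulAut.conj g).toMonoidHom := hg ▸ mem_zpowers x
  rw [← hwx]
  exact hM.conj_mem w ((zpowers_le.2 hyM) hw) g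

theorem PConj.invol_conj (h : PConj G) {s t : G} (hs : orderOf s = 2) (ht : orderOf t = 2) :
    ∃ g : G, g * s * g⁻¹ = t := by
  have hz : ∀ z : G, orderOf z = 2 → IsPGroup 2 (zpowers z) := fun z hz =>
    IsPGroup.of_card (n := 1) (by rw [Nat.card_zpowers, hz, pow_one])
  obtain ⟨g, hg⟩ := h 2 Nat.prime_two (zpowers s) (zpowers t) (hz s hs) (hz t ht)
    (by rw [Nat.card_zpowers, Nat.card_zpowers, hs, ht])
  obtain ⟨w, hw, hwt⟩ : t ∈ (zpowers s).map (MulAut.conj g).toMonoidHom := hg ▸ mem_zpowers t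
  obtain ⟨i, rfl⟩ := mem_zpowers_iff.1 hw
  refine ⟨g, ?_⟩
  have h1 : g * s ^ i * g⁻¹ = t := hwt
  rw [← zpow_mod_orderOf, hs] at h1
  rcases (show i % ((2 : ℕ) : ℤ) = 0 ∨ i % ((2 : ℕ) : ℤ) = 1 by omega) with h0 | h0
    <;> rw [h0] at h1
  · rw [zpow_zero, mul_one, mul_inv_cancel] at h1
    rw [← h1, orderOf_one] at ht
    norm_num at ht
  · rwa [zpow_one] at h1

variable {S : Sylow 2 G}

/-- No normal solvable subgroup when the Sylow 2-subgroup is elementary abelian and not normal. -/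
theorem radical (h : PConj G) (hel : Cfsg.IsElementaryAbelian 2 (S : Subgroup G)) (hO : Cfsg.oddCore G = ⊥)
    (hnn : ¬ (S : Subgroup G).Normal) {N : Subgroup G} (hN : N.Normal) (hNs : Group.IsSolvable N) : N = ⊥ := by
  haveI : Fact (Nat.Prime 2) := ⟨Nat.prime_two⟩
  by_contra hne
  haveI := hN
  obtain ⟨M, hMn, hM, hMN, hmin⟩ := Grp.exists_minimal_normal_le hne
  haveI := hMn
  haveI := hNs
  have hMs : Group.IsSolvable M := Group.isSolvable_of_isSolvable_injective (inclusion_injective hMN)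
  obtain ⟨p, hp, hMp⟩ := Grp.minimal_normal_solvable_isPGroup hMs hM hmin
  haveI := Fact.mk hp
  by_cases hp2 : p = 2
  · subst hp2
    obtain ⟨k, hk⟩ := hMp.exists_card_eq
    have hk0 : k ≠ 0 := fun e => hM (card_eq_one.1 (by rw [hk, e, pow_zero]))
    obtain ⟨m, hm⟩ := exists_prime_orderOf_dvd_card' (G := M) 2 (by rw [hk]; exact dvd_pow_self 2 hk0)
    have hle : M ≤ (S : Subgroup G) := hMp.le_sylow_of_normal S
    have hge : (S : Subgroup G) ≤ M := fun x hx => by
      by_cases h1 : x = 1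
      · rw [h1]; exact one_mem _
      · exact h.mem_normal hMn Nat.prime_two (orderOf_eq_prime (hel.2 x hx) h1)
          (by rw [Subgroup.orderOf_coe, hm]) m.2
    exact hnn (le_antisymm hge hle ▸ hMn)
  · obtain ⟨k, hk⟩ := hMp.exists_card_eq
    refine hM (le_bot_iff.1 (hO ▸ Grp.le_pPrimeCore hMn ?_))
    rw [hk]
    exact ((Nat.coprime_primes hp Nat.prime_two).2 hp2).pow_left k

/-- The simple socle. -/
theorem exists_socle (h : PConj G) (hel : Cfsg.IsElementaryAbelian 2 (S : Subgroup G))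
    (hO : Cfsg.oddCore G = ⊥) (hnn : ¬ (S : Subgroup G).Normal) :
    ∃ M : Subgroup G, M.Normal ∧ IsSimpleGroup M ∧ ¬ IsMulCommutative M ∧ (S : Subgroup G) ≤ M ∧
      Odd M.index ∧ centralizer (M : Set G) = ⊥ := by
  haveI : Fact (Nat.Prime 2) := ⟨Nat.prime_two⟩
  have hrad : ∀ N : Subgroup G, N.Normal → Group.IsSolvable N → N = ⊥ := fun N hN hs => radical h hel hO hnn hN hs
  have htop : (⊤ : Subgroup G) ≠ ⊥ := fun e => hnn (by
    rw [show (S : Subgroup G) = ⊥ from le_bot_iff.1 (e ▸ le_top)]; infer_instance)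
  obtain ⟨M, hMn, hM, -, hMmin⟩ := Grp.exists_minimal_normal_le htop
  haveI := hMn
  have hMns : ¬ Group.IsSolvable M := fun hs => hM (hrad M hMn hs)
  have hMc : ¬ IsMulCommutative M := fun hc => hMns (Group.isSolvable_of_comm fun a b => hc.is_comm.comm a b)
  have hodd : ∀ A : Subgroup G, ¬ Group.IsSolvable A → 2 ∣ Nat.card A := fun A hA =>
    even_iff_two_dvd.1 (Nat.not_odd_iff_even.1 fun ho => hA (Cfsg.Agent.S0205.result ho))
  obtain ⟨m, hm⟩ := exists_prime_orderOf_dvd_card' (G := M) 2 (hodd M hMns)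
  have hall : ∀ x : G, orderOf x = 2 → x ∈ M := fun x hx =>
    h.mem_normal hMn Nat.prime_two hx (by rw [Subgroup.orderOf_coe, hm]) m.2
  have hSM : (S : Subgroup G) ≤ M := fun x hx => by
    by_cases h1 : x = 1
    · rw [h1]; exact one_mem _
    · exact hall x (orderOf_eq_prime (hel.2 x hx) h1)
  have hC : centralizer (M : Set G) = ⊥ := by
    refine hrad _ inferInstance ?_
    by_cases ho : Odd (Nat.card ↥(centralizer (M : Set G)))
    · exact Cfsg.Agent.S0205.result ho
    exfalso
    obtain ⟨c, hc⟩ := exists_prime_orderOf_dvd_card' (G := ↥(centralizer (M : Set G))) 2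
      (even_iff_two_dvd.1 (Nat.not_odd_iff_even.1 ho))
    rw [← Subgroup.orderOf_coe] at hc
    have hZ : M ⊓ centralizer (M : Set G) = ⊥ := by
      refine hrad _ inferInstance (Group.isSolvable_of_comm fun a b => Subtype.ext ?_)
      exact mem_centralizer_iff.1 b.2.2 a a.2.1
    have : (c : G) ∈ M ⊓ centralizer (M : Set G) := ⟨hall _ hc, c.2⟩
    rw [hZ, mem_bot] at this
    rw [this, orderOf_one] at hc
    omega
  refine ⟨M, hMn, ?_, hMc, hSM, Nat.not_even_iff_odd.1 fun he =>
    S.not_dvd_index ((even_iff_two_dvd.1 he).trans (index_dvd_of_le hSM)), hC⟩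
  haveI : Nontrivial M := (Subgroup.nontrivial_iff_ne_bot M).mpr hM
  refine ⟨fun K hK => ?_⟩
  by_contra hKc
  push Not at hKc
  obtain ⟨K0, hK0n, hK0ne, hK0K, hK0min⟩ := Grp.exists_minimal_normal_le (N := K) hKc.1
  haveI := hK0n
  have hK0ns : ¬ Group.IsSolvable K0 := fun hs => Grp.PGCIT.false_of_solvable_normal hrad M K0 hs hK0ne
  set A := K0.map M.subtype with hA
  have hAM : A ≤ M := Subgroup.map_subtype_le _
  have hAns : ¬ Group.IsSolvable A := fun hs => hK0ns (by
    haveI := hs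
    exact Group.isSolvable_of_isSolvable_injective
      (f := (K0.equivMapOfInjective _ M.subtype_injective).toMonoidHom) (MulEquiv.injective _))
  -- all conjugates of `A` are normal in `M` and minimal
  have hnormA : ∀ g : G, ∀ m ∈ M, ∀ b ∈ A.map (MulAut.conj g).toMonoidHom,
      m * b * m⁻¹ ∈ A.map (MulAut.conj g).toMonoidHom := by
    rintro g m hm _ ⟨_, ⟨b, hb, rfl⟩, rfl⟩
    refine ⟨_, ⟨_, hK0n.conj_mem b hb ⟨g⁻¹ * m * g, hMn.conj_mem' m hm g⟩, rfl⟩, ?_⟩
    simp only [MulEquiv.coe_toMonoidHom, MulAut.conj_apply, Subgroup.coe_subtype, Subgroup.coe_mul, Subgroup.coe_inv]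
    group
  have hdisj : ∀ g : G, A.map (MulAut.conj g).toMonoidHom = A ∨
      ∀ a ∈ A, ∀ b ∈ A.map (MulAut.conj g).toMonoidHom, a * b = b * a := by
    intro g
    set B := A.map (MulAut.conj g).toMonoidHom with hB
    have hBM : B ≤ M := by
      rintro _ ⟨b, hb, rfl⟩
      exact hMn.conj_mem b (hAM hb) g
    have hMA : ∀ m ∈ M, ∀ a ∈ A, m * a * m⁻¹ ∈ A := by
      rintro m hm _ ⟨a, ha, rfl⟩
      exact ⟨_, hK0n.conj_mem a ha ⟨m, hm⟩, rfl⟩
    let I : Subgroup M := (A ⊓ B).subgroupOf M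
    haveI : I.Normal := ⟨fun x hx m => ⟨hMA m m.2 _ hx.1, hnormA g m m.2 _ hx.2⟩⟩
    have hIK : I ≤ K0 := by
      intro x hx
      obtain ⟨y, hy, hyx⟩ := (mem_subgroupOf.1 hx).1
      exact Subtype.ext hyx ▸ hy
    rcases hK0min I inferInstance hIK with e | e
    · refine Or.inr fun a ha b hb => ?_
      have h1 : a * b * a⁻¹ * b⁻¹ ∈ A ⊓ B := ⟨by
          rw [show a * b * a⁻¹ * b⁻¹ = a * (b * a⁻¹ * b⁻¹) by group]
          exact mul_mem ha (hMA b (hBM hb) _ (A.inv_mem ha)),
        mul_mem (hnormA g a (hAM ha) b hb) (B.inv_mem hb)⟩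
      have h2 : (⟨_, hAM h1.1⟩ : M) ∈ I := h1
      rw [e, mem_bot] at h2
      exact mul_inv_eq_iff_eq_mul.1 (mul_inv_eq_one.1 (congrArg Subtype.val h2))
    · left
      refine (eq_of_le_of_card_ge ?_ (by rw [hB, card_map_of_injective (MulAut.conj g).injective])).symm
      rintro _ ⟨y, hy, rfl⟩
      exact (e.symm ▸ hy : y ∈ I).2
  -- two conjugates would give a commuting pair of involutions outside both
  obtain ⟨g, hg⟩ : ∃ g : G, A.map (MulAut.conj g).toMonoidHom ≠ A := by
    by_contra hc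
    push Not at hc
    have hAn : A.Normal := ⟨fun a ha g => hc g ▸ ⟨a, ha, rfl⟩⟩
    rcases hMmin A hAn hAM with e | e
    · exact hAns (e ▸ inferInstance)
    · refine hKc.2 (eq_top_iff.2 fun x _ => hK0K ?_)
      obtain ⟨y, hy, hyx⟩ : (x : G) ∈ A := by rw [e]; exact x.2
      exact Subtype.ext hyx ▸ hy
  have hcomm := (hdisj g).resolve_left hg
  set B := A.map (MulAut.conj g).toMonoidHom with hB
  obtain ⟨a, ha⟩ := exists_prime_orderOf_dvd_card' (G := A) 2 (hodd A hAns)
  rw [← Subgroup.orderOf_coe] at ha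
  set b := g * (a : G) * g⁻¹ with hb
  have hbB : b ∈ B := ⟨a, a.2, rfl⟩
  have hbo : orderOf b = 2 := by rw [hb, Invol.orderOf_conj_eq, ha]
  have hcen : ∀ x ∈ A, (∀ y ∈ A, x * y = y * x) → x = 1 := by
    intro x hx hxc
    set Z : Subgroup M := (A ⊓ centralizer (A : Set G)).subgroupOf M
    haveI : Z.Normal := ⟨fun z hz m => by
      refine ⟨by
        obtain ⟨y, hy, hyz⟩ := hz.1
        exact ⟨_, hK0n.conj_mem y hy m, by obtain rfl : y = z := Subtype.ext hyz; rfl⟩, mem_centralizer_iff.2 fun w hw => ?_⟩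
      have hwm : (m : G)⁻¹ * w * m ∈ A := by
        obtain ⟨y, hy, hyw⟩ := hw
        exact ⟨_, hK0n.conj_mem' y hy m, by simp [← hyw]⟩
      have h3 : (m : G)⁻¹ * w * m * (z : G) = (z : G) * ((m : G)⁻¹ * w * m) := mem_centralizer_iff.1 hz.2 _ hwm
      show w * ((m : G) * z * (m : G)⁻¹) = (m : G) * z * (m : G)⁻¹ * w
      calc w * ((m : G) * z * (m : G)⁻¹) = m * (((m : G)⁻¹ * w * m) * z) * (m : G)⁻¹ := by group
        _ = m * (z * ((m : G)⁻¹ * w * m)) * (m : G)⁻¹ := by rw [h3]
        _ = _ := by group⟩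
    have hZ : Z = ⊥ := by
      by_contra hz
      refine Grp.PGCIT.false_of_solvable_normal hrad M Z (Group.isSolvable_of_comm fun u v => Subtype.ext (Subtype.ext ?_)) hz
      exact mem_centralizer_iff.1 (mem_subgroupOf.1 v.2).2 _ (mem_subgroupOf.1 u.2).1
    have : (⟨x, hAM hx⟩ : M) ∈ Z := ⟨hx, mem_centralizer_iff.2 fun y hy => (hxc y hy).symm⟩
    rw [hZ, mem_bot] at this
    exact congrArg Subtype.val this
  have hab : (a : G) * b = b * a := hcomm a a.2 b hbB
  have habne : (a : G) * b ≠ 1 := fun e => by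
    refine (show (a : G) ≠ 1 from fun e' => by rw [e', orderOf_one] at ha; omega) (hcen a a.2 fun y hy => ?_)
    rw [eq_inv_of_mul_eq_one_left e]
    exact ((show Commute y b from hcomm y hy b hbB).inv_right).eq.symm
  have habo : orderOf ((a : G) * b) = 2 := by
    refine orderOf_eq_prime ?_ habne
    rw [(show Commute (a : G) b from hab).mul_pow, orderOf_dvd_iff_pow_eq_one.1 (dvd_of_eq ha),
      orderOf_dvd_iff_pow_eq_one.1 (dvd_of_eq hbo), one_mul]
  obtain ⟨k, hk⟩ := h.invol_conj ha habo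
  rcases hdisj k with e | e
  · -- `ab ∈ A`
    have hbA : b ∈ A := by
      have : (a : G) * b ∈ A := e.le ⟨a, a.2, hk⟩
      simpa using mul_mem (inv_mem a.2) this
    refine (show b ≠ 1 from fun e' => by rw [e', orderOf_one] at hbo; omega) (hcen b hbA fun y hy => (hcomm y hy b hbB).symm)
  · refine (show (a : G) ≠ 1 from fun e' => by rw [e', orderOf_one] at ha; omega) (hcen a a.2 fun y hy => ?_)
    have h1 : Commute y ((a : G) * b) := e y hy _ ⟨a, a.2, hk⟩
    have h2 : Commute y b := hcomm y hy b hbB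
    have h3 := h1.mul_right h2.inv_right
    rw [mul_inv_cancel_right] at h3
    exact h3.eq.symm

/-- Normal Sylow 2-subgroup of order four. -/
theorem normal_four (h : PConj G) (hel : Cfsg.IsElementaryAbelian 2 (S : Subgroup G)) (hO : Cfsg.oddCore G = ⊥)
    (hn : (S : Subgroup G).Normal) (hcard : Nat.card (S : Subgroup G) = 4) :
    Nonempty (G ≃* alternatingGroup (Fin 4)) := by
  haveI : Fact (Nat.Prime 2) := ⟨Nat.prime_two⟩
  haveI : Fact (Nat.Prime 3) := ⟨Nat.prime_three⟩
  haveI := hn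
  have hin : ∀ (g : G) (j : ℕ), orderOf g = 2 ^ j → g ∈ (S : Subgroup G) := fun g j hj => by
    obtain ⟨T, hT⟩ := (IsPGroup.of_card (p := 2) (n := j)
      (show Nat.card (zpowers g) = 2 ^ j by rw [Nat.card_zpowers, hj])).exists_le_sylow
    haveI := Sylow.unique_of_normal S hn
    exact (Subsingleton.elim T S) ▸ hT (mem_zpowers g)
  have hinv : ∀ x : G, orderOf x = 2 → x ∈ (S : Subgroup G) := fun x hx => hin x 1 (by rw [hx, pow_one])
  haveI : Group.IsSolvable (S : Subgroup G) := Group.isSolvable_of_comm fun a b => hel.1.is_comm.comm a b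
  have hodd : Odd (S : Subgroup G).index := Nat.not_even_iff_odd.1 fun he => S.not_dvd_index (even_iff_two_dvd.1 he)
  have hsol : Group.IsSolvable G := by
    haveI : Group.IsSolvable (G ⧸ (S : Subgroup G)) := Cfsg.Agent.S0205.result (by rwa [← index_eq_card])
    exact (Group.isSolvable_iff_subgroup_quotient (S : Subgroup G)).2 ⟨inferInstance, inferInstance⟩
  have hpc : Cfsg.pCore 2 G = (S : Subgroup G) :=
    le_antisymm (Grp.pCore_le_sylow S) (Grp.le_pCore hn S.isPGroup')
  have hCS : centralizer ((S : Subgroup G) : Set G) ≤ (S : Subgroup G) := by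
    haveI := hsol
    have h1 := Grp.centralizer_pCore_le (G := G) (p := 2) hO
    rwa [hpc] at h1
  -- the action on the three involutions is transitive
  obtain ⟨a, ha⟩ := exists_prime_orderOf_dvd_card' (G := (S : Subgroup G)) 2 (by rw [hcard]; norm_num)
  rw [← Subgroup.orderOf_coe] at ha
  have hC : centralizer ({(a : G)} : Set G) ≤ (S : Subgroup G) := by
    intro g hg
    by_contra hgS
    obtain ⟨q, hq, hq2, k, hk, hk1⟩ : ∃ q : ℕ, q.Prime ∧ q ≠ 2 ∧ ∃ k : G, k ∈ zpowers g ∧ orderOf k = q := by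
      by_contra hno
      push Not at hno
      obtain ⟨j, hj⟩ : ∃ j, orderOf g = 2 ^ j := ⟨_, Nat.eq_prime_pow_of_unique_prime_dvd (orderOf_pos g).ne'
        fun {q} hq hqd => by_contra fun hq2 => hno q hq hq2 (g ^ (orderOf g / q)) (pow_mem (mem_zpowers g) _) (by
          rw [orderOf_pow_of_dvd (Nat.div_pos (Nat.le_of_dvd (orderOf_pos g) hqd) hq.pos).ne'
            (Nat.div_dvd_of_dvd hqd), Nat.div_div_self hqd (orderOf_pos g).ne'])⟩
      exact hgS (hin g j hj)
    have hka : k * (a : G) * k⁻¹ = a := mul_inv_eq_iff_eq_mul.2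
      (mem_centralizer_singleton_iff.1 ((zpowers_le.2 hg) hk))
    -- `k` permutes the other two involutions, so its square fixes everything
    set V := {x : G | x ∈ (S : Subgroup G) ∧ x ≠ 1 ∧ x ≠ a} with hV
    have hV2 : V.ncard = 2 := by
      rw [show V = ((S : Subgroup G) : Set G) \ {1, (a : G)} from Set.ext fun x =>
        ⟨fun h => ⟨h.1, by simp [h.2.1, h.2.2]⟩, fun h => ⟨h.1, by simpa using h.2⟩⟩,
        Set.ncard_sdiff (by rintro x (rfl | rfl) <;> simp) (Set.toFinite _),
        Set.ncard_pair (fun e => by rw [← e, orderOf_one] at ha; omega), ← Nat.card_coe_set_eq]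
      exact congrArg (· - 2) hcard
    have hk2 : k * k ∈ centralizer ((S : Subgroup G) : Set G) := by
      refine mem_centralizer_iff.2 fun x hx => ?_
      have key : k * (k * x * k⁻¹) * k⁻¹ = x := by
        by_cases h1 : x = 1
        · simp [h1]
        by_cases h2 : x = a
        · rw [h2, hka, hka]
        have hmaps : ∀ y ∈ V, k * y * k⁻¹ ∈ V := fun y hy => ⟨hn.conj_mem y hy.1 k,
          fun e => hy.2.1 (conj_eq_one_iff.1 e), fun e => hy.2.2 (by
            calc y = k⁻¹ * (k * y * k⁻¹) * k := by group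
              _ = k⁻¹ * (k * a * k⁻¹) * k := by rw [e, hka]
              _ = a := by group)⟩
        have hxV : x ∈ V := ⟨hx, h1, h2⟩
        obtain ⟨y, z, hyz, hVyz⟩ := Set.ncard_eq_two.1 hV2
        by_cases hfix : k * x * k⁻¹ = x
        · rw [hfix, hfix]
        · have h3 := hmaps x hxV
          have h4 := hmaps _ h3
          have hne : k * (k * x * k⁻¹) * k⁻¹ ≠ k * x * k⁻¹ := fun e => hfix (by
            simpa using e)
          rw [hVyz] at hxV h3 h4
          simp only [Set.mem_insert_iff, Set.mem_singleton_iff] at hxV h3 h4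
          rcases hxV with e1 | e1 <;> rcases h3 with e2 | e2 <;> rcases h4 with e3 | e3
          all_goals first
            | exact e3.trans e1.symm
            | exact absurd (e2.trans e1.symm) hfix
            | exact absurd (e3.trans e2.symm) hne
      calc x * (k * k) = k * (k * x * k⁻¹) * k⁻¹ * (k * k) := by rw [key]
        _ = _ := by group
    have hk2S := hCS hk2
    haveI := Fact.mk hq
    have h1 : orderOf (k * k) = q := by
      rw [← pow_two, Nat.Coprime.orderOf_pow (by rw [hk1]; exact (Nat.coprime_primes hq Nat.prime_two).2 hq2), hk1]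
    have h2 : q ∣ 4 := hcard ▸ h1 ▸ Subgroup.orderOf_dvd_natCard _ hk2S
    exact hq2 ((Nat.prime_dvd_prime_iff_eq hq Nat.prime_two).1 (hq.dvd_of_dvd_pow (show q ∣ 2 ^ 2 from h2)))
  have h3 : (S : Subgroup G).index = 3 := by
    have horb : MulAction.orbit (ConjAct G) (a : G) = ((S : Subgroup G) : Set G) \ {1} := by
      ext x
      rw [ConjAct.mem_orbit_conjAct]
      constructor
      · intro hx
        obtain ⟨g, hg⟩ := isConj_iff.1 hx.symm
        exact ⟨hg ▸ hn.conj_mem _ a.2 g, fun e => by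
          rw [Set.mem_singleton_iff] at e
          rw [e, conj_eq_one_iff] at hg
          rw [hg, orderOf_one] at ha; omega⟩
      · rintro ⟨hx, hx1⟩
        exact (isConj_iff.2 (h.invol_conj ha (orderOf_eq_prime (hel.2 x hx) hx1))).symm
    have h1 := Nat.card_congr (MulAction.orbitProdStabilizerEquivGroup (ConjAct G) (a : G))
    have hCeq : centralizer ({(a : G)} : Set G) = (S : Subgroup G) := le_antisymm hC fun x hx =>
      mem_centralizer_singleton_iff.2 (congrArg Subtype.val (hel.1.is_comm.comm ⟨x, hx⟩ a))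
    have hst : Nat.card (MulAction.stabilizer (ConjAct G) (a : G)) = 4 := by
      rw [ConjAct.stabilizer_eq_centralizer]
      exact (congrArg (fun H : Subgroup G => Nat.card H) hCeq).trans hcard
    rw [Nat.card_prod, horb, hst, Nat.card_coe_set_eq,
      Set.ncard_sdiff (Set.singleton_subset_iff.2 (one_mem (S : Subgroup G))) (Set.toFinite _),
      Set.ncard_singleton, ← Nat.card_coe_set_eq, Nat.card_congr ConjAct.ofConjAct.toEquiv,
      show Nat.card ((S : Subgroup G) : Set G) = 4 from hcard, ← (S : Subgroup G).card_mul_index, hcard] at h1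
    omega
  have h12 : Nat.card G = 12 := by rw [← (S : Subgroup G).card_mul_index, hcard, h3]
  obtain ⟨x, hx⟩ := exists_prime_orderOf_dvd_card' (G := G) 3 (by rw [h12]; norm_num)
  have hP : Nat.card (zpowers x) = 3 := by rw [Nat.card_zpowers, hx]
  refine Dickson.nonempty_alternating_four h12 (zpowers x) hP (le_antisymm ?_ le_normalizer)
  intro n hn'
  -- a 2-element of the normaliser would centralise `x`
  set N := normalizer (zpowers x : Set G)
  by_contra hnx
  have hlt : zpowers x < N := lt_of_le_of_ne le_normalizer fun e => hnx (e ▸ hn')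
  have hNcard : 2 ∣ Nat.card N := by
    have h12' : Nat.card N ∣ 12 := h12 ▸ card_subgroup_dvd_card N
    have h3' : 3 ∣ Nat.card N := hP ▸ card_dvd_of_le hlt.le
    have h4 : 3 ≠ Nat.card N := fun e => hlt.ne (eq_of_le_of_card_ge hlt.le (by rw [hP, e]))
    have := Nat.le_of_dvd (by norm_num) h12'
    interval_cases hN : Nat.card N <;> omega
  obtain ⟨v, hv⟩ := exists_prime_orderOf_dvd_card' (G := N) 2 hNcard
  rw [← Subgroup.orderOf_coe] at hv
  have hvS := hinv _ hv
  have h5 : (v : G) * x * (v : G)⁻¹ * x⁻¹ ∈ (S : Subgroup G) ⊓ zpowers x := by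
    refine ⟨?_, mul_mem ((mem_normalizer_iff.1 v.2 x).1 (mem_zpowers x)) ((zpowers x).inv_mem (mem_zpowers x))⟩
    rw [show (v : G) * x * (v : G)⁻¹ * x⁻¹ = (v : G) * (x * (v : G)⁻¹ * x⁻¹) by group]
    exact mul_mem hvS (hn.conj_mem _ ((S : Subgroup G).inv_mem hvS) x)
  rw [Grp.inf_eq_bot_of_coprime (by rw [hP, hcard]; norm_num), mem_bot] at h5
  obtain ⟨g, hg⟩ := h.invol_conj ha hv
  have hxC : g⁻¹ * x * g ∈ centralizer ({(a : G)} : Set G) := by
    refine mem_centralizer_singleton_iff.2 ?_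
    have hvx : (v : G) * x = x * v := mul_inv_eq_iff_eq_mul.1 (mul_inv_eq_one.1 h5)
    calc g⁻¹ * x * g * a = g⁻¹ * (x * (g * a * g⁻¹)) * g := by group
      _ = g⁻¹ * ((g * a * g⁻¹) * x) * g := by rw [hg, hvx]
      _ = _ := by group
  have hxS : g⁻¹ * x * g ∈ (S : Subgroup G) := hC hxC
  have h6 : orderOf (g⁻¹ * x * g) = 3 := by
    rw [show g⁻¹ * x * g = g⁻¹ * x * (g⁻¹)⁻¹ by group, Invol.orderOf_conj_eq, hx]
  have : 3 ∣ 4 := hcard ▸ h6 ▸ Subgroup.orderOf_dvd_natCard _ hxS
  omega

end Cfsg.Agent.Invol.AbelTwo.EqualP
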