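import Cfsg.Agent.Lib.Invol.AbelTwo.EqualP.Odd
import Cfsg.Agent.Lib.Invol.AbelTwo.Hub
import Cfsg.Agent.Lib.Invol.AbelTwo.ThreeElts
import Cfsg.Agent.Lib.Invol.ConjSubgroups.Elementary
import Cfsg.Agent.Lib.Spor.J1.Out
import Cfsg.Prelude.Def_Sporadic

/-!
# Groups with p-subgroups of equal order conjugate: elementary abelian Sylow 2-subgroups
-/

set_option autoImplicit false
set_option linter.unusedSectionVars false
set_option linter.style.haveILetI false

namespace Cfsg.Agent.Invol.AbelTwo.EqualP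

open Subgroup Matrix Cfsg.Agent.Classical Cfsg.Agent.Classical.PSLAut
open scoped _root_.Classical

universe u

variable {G : Type u} [Group G] [Finite G] {S : Sylow 2 G}

/-- The part of the list given by `L2(p)` and `L2(p³)`. -/
def OddList (G : Type u) [Group G] : Prop :=
  ∃ (p : ℕ) (_ : Fact p.Prime), (p % 8 = 3 ∨ p % 8 = 5) ∧
    (Nonempty (G ≃* ProjectiveSpecialLinearGroup (Fin 2) (ZMod p)) ∨
      Nonempty (G ≃* ProjectiveSpecialLinearGroup (Fin 2) (GaloisField p 3)))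

/-- Outer automorphisms are absent in `J1`. -/
theorem top_of_j1 {M : Subgroup G} [M.Normal] (hC : centralizer (M : Set G) = ⊥) (hJ : Cfsg.Spor.IsoJ1 ↥M) :
    M.index = 1 := by
  obtain ⟨e⟩ := hJ
  rw [index_eq_one]
  refine eq_top_iff.2 fun g _ => ?_
  obtain ⟨a, ha⟩ : MulAut.congr e (MulAut.conjNormal g) ∈ (MulAut.conj : Cfsg.Spor.J1 →* _).range :=
    J1Cert.all_inner _
  have h : MulAut.conjNormal g = MulAut.conj (e.symm a) := by
    apply (MulAut.congr e).injective
    rw [← ha]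
    refine MulEquiv.ext fun y => ?_
    show a * y * a⁻¹ = e (e.symm a * e.symm y * (e.symm a)⁻¹)
    simp
  have hm : ((e.symm a : ↥M) : G)⁻¹ * g ∈ centralizer (M : Set G) := mem_centralizer_iff.2 fun y hy => by
    have h' := congrArg (fun f : MulAut M => ((f ⟨y, hy⟩ : M) : G)) h
    simp only [MulAut.conjNormal_apply, MulAut.conj_apply, Subgroup.coe_mul, Subgroup.coe_inv] at h'
    calc y * (((e.symm a : ↥M) : G)⁻¹ * g) = ((e.symm a : ↥M) : G)⁻¹ *
          ((e.symm a : ↥M) * y * ((e.symm a : ↥M) : G)⁻¹) * g := by group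
      _ = ((e.symm a : ↥M) : G)⁻¹ * (g * y * g⁻¹) * g := by rw [h']
      _ = _ := by group
  rw [hC, mem_bot, inv_mul_eq_one] at hm
  exact hm ▸ (e.symm a).2

/-- Socle `L2(2^n)`, `n ≥ 3`. -/
theorem two_socle (h : PConj G) (hel : Cfsg.IsElementaryAbelian 2 (S : Subgroup G)) {M : Subgroup G}
    (hMn : M.Normal) (hidx : Odd M.index) (hC : centralizer (M : Set G) = ⊥) {r : ℕ} (hr : 3 ≤ r)
    (hcard : Nat.card (S : Subgroup G) = 2 ^ r) {F : Type} [Field F] [Fintype F] (hq : Fintype.card F = 2 ^ r)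
    (e : ↥M ≃* ProjectiveSpecialLinearGroup (Fin 2) F) :
    Nonempty (G ≃* ProjectiveSpecialLinearGroup (Fin 2) (GaloisField 2 3)) ∨
      Nonempty (G ≃* MulAut (ProjectiveSpecialLinearGroup (Fin 2) (GaloisField 2 5))) := by
  haveI : Fact (Nat.Prime 2) := ⟨Nat.prime_two⟩
  haveI := hMn
  set N := normalizer ((S : Subgroup G) : Set G) with hN
  haveI := ConjSub.isSolvable_normalizer (S := S) hel.1
  haveI hKn : (Cfsg.pPrimeCore 2 ↥N).Normal := Grp.pPrimeCore_isNormal
  have h25 := Cfsg.Agent.S4025.result (p := 2) (h 2 Nat.prime_two) S r hr hel hcard N hN inferInstance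
  have heven : Even (Fintype.card F) := by rw [hq]; exact Nat.even_pow.2 ⟨even_two, by omega⟩
  have hMc : Nat.card M = 2 ^ r * ((2 ^ r - 1) * (2 ^ r + 1)) := by
    rw [Nat.card_congr e.toEquiv, GW.HallNumbers.card_psl_two_pow heven, hq]
  letI : Fintype (GaloisField 2 r) := Fintype.ofFinite _
  have hfield : Fintype.card F = Fintype.card (GaloisField 2 r) := by
    rw [hq, ← Nat.card_eq_fintype_card, GaloisField.card 2 r (by omega)]
  obtain ⟨e'⟩ := Block.OrdP.psl_congr' (n := 2) (FiniteField.ringEquivOfCardEq hfield)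
  have hAut : Nat.card (MulAut M) = r * Nat.card M := by
    rw [Nat.card_congr (MulAut.congr e).toEquiv,
      Cfsg.Agent.S0813.result (F := F) 2 r (by omega) hq 2 le_rfl
        (fun _ => by have := Nat.pow_le_pow_right two_pos hr; omega),
      if_pos rfl, one_mul, Block.Zas.card_PGL_two, hMc, hq]
    ring
  have hG : Nat.card G = Nat.card M * M.index := M.card_mul_index.symm
  have hinj : Function.Injective (MulAut.conjNormal : G →* MulAut M) := by
    refine (injective_iff_map_eq_one _).2 fun g hg => mem_bot.1 (hC ▸ mem_centralizer_iff.2 fun m hm => ?_)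
    have := congrArg (fun f : MulAut M => ((f ⟨m, hm⟩ : M) : G)) hg
    simp only [MulAut.conjNormal_apply, MulAut.one_apply] at this
    exact (mul_inv_eq_iff_eq_mul.1 this).symm
  haveI : Finite (MulAut M) := Finite.of_injective (fun f : MulAut M => (f : M → M)) DFunLike.coe_injective
  have hdvd : M.index ∣ r := by
    refine Nat.dvd_of_mul_dvd_mul_right (Nat.card_pos (α := M)) ?_
    rw [← hAut, mul_comm, M.card_mul_index]
    exact card_dvd_of_injective _ hinj
  have hbij : M.index = r → Function.Bijective (MulAut.conjNormal : G →* MulAut M) := fun hi =>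
    hinj.bijective_of_nat_card_le (by rw [hAut, hG, hi, mul_comm])
  rcases h25 with ⟨rfl, -, -⟩ | ⟨rfl, -, ⟨e25⟩⟩
  · left
    refine ConjSub.top_of_index_one ?_ (e.trans e')
    refine ((Nat.dvd_prime Nat.prime_three).1 hdvd).resolve_right fun hi => ?_
    obtain ⟨β, hβ, hout⟩ := exists_outer_three (p := 2) hq
    obtain ⟨g, hg⟩ := (hbij hi).2 ((MulAut.congr e).symm β)
    haveI : Fact (Nat.Prime 3) := ⟨Nat.prime_three⟩
    have hg1 : g ≠ 1 := fun h1 => by
      rw [h1, map_one] at hg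
      refine hout 1 ?_
      rw [map_one, ← (MulAut.congr e).apply_symm_apply β, ← hg, map_one]
    have hg3 : g ^ 3 = 1 := hinj (by rw [map_pow, hg, ← map_pow, hβ, map_one, map_one])
    obtain ⟨m, hm⟩ := exists_prime_orderOf_dvd_card' (G := M) 3 (by rw [hMc]; norm_num)
    have hgM : g ∈ M := h.mem_normal hMn Nat.prime_three (orderOf_eq_prime hg3 hg1)
      (by rw [Subgroup.orderOf_coe, hm]) m.2
    refine hout (e ⟨g, hgM⟩) ?_
    rw [← (MulAut.congr e).apply_symm_apply β, ← hg]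
    refine MulEquiv.ext fun y => ?_
    show e (MulAut.conjNormal g (e.symm y)) = e ⟨g, hgM⟩ * y * (e ⟨g, hgM⟩)⁻¹
    conv_rhs => rw [← e.apply_symm_apply y, ← map_mul, ← map_inv, ← map_mul]
    exact congrArg e (Subtype.ext (MulAut.conjNormal_apply (H := M) _ _))
  · right
    have h5 : 5 ∣ Nat.card G :=
      (ConjSub.five_dvd_semiaffine.trans (dvd_of_eq (Nat.card_congr e25.toEquiv).symm)).trans
        ((card_quotient_dvd_card _).trans (card_subgroup_dvd_card N))
    have hi : M.index = 5 := by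
      refine ((Nat.dvd_prime Nat.prime_five).1 hdvd).resolve_left fun h1 => ?_
      rw [hG, h1, mul_one, hMc] at h5
      norm_num at h5
    exact ⟨((MulEquiv.ofBijective _ (hbij hi)).trans (MulAut.congr (e.trans e')))⟩

/-- Socle `L2(4)`. -/
theorem four_socle {M : Subgroup G} (hMn : M.Normal) [IsSimpleGroup ↥M] (hidx : Odd M.index)
    (hC : centralizer (M : Set G) = ⊥) {F : Type} [Field F] [Fintype F] (hq : Fintype.card F = 2 ^ 2)
    (e : ↥M ≃* ProjectiveSpecialLinearGroup (Fin 2) F) :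
    Nonempty (G ≃* ProjectiveSpecialLinearGroup (Fin 2) (ZMod 5)) := by
  haveI : Fact (Nat.Prime 2) := ⟨Nat.prime_two⟩
  haveI := hMn
  haveI : CharP F 2 := charP_of_card_eq_prime_pow hq
  obtain ⟨e5⟩ := psl_five_of_four (F := F) (by rw [hq]; norm_num) (e.trans (Invol.GW.SLTwoEquivPSL (F := F)).symm)
  refine ConjSub.top_of_index_one ?_ e5
  have hinj : Function.Injective (MulAut.conjNormal : G →* MulAut M) := by
    refine (injective_iff_map_eq_one _).2 fun g hg => mem_bot.1 (hC ▸ mem_centralizer_iff.2 fun m hm => ?_)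
    have := congrArg (fun f : MulAut M => ((f ⟨m, hm⟩ : M) : G)) hg
    simp only [MulAut.conjNormal_apply, MulAut.one_apply] at this
    exact (mul_inv_eq_iff_eq_mul.1 this).symm
  haveI : Finite (MulAut M) := Finite.of_injective (fun f : MulAut M => (f : M → M)) DFunLike.coe_injective
  have hMc : Nat.card M = 60 := by
    rw [Nat.card_congr e.toEquiv, GW.HallNumbers.card_psl_two_pow (by rw [hq]; decide), hq]
    norm_num
  have hAut : Nat.card (MulAut M) = 2 * 60 := by
    rw [Nat.card_congr (MulAut.congr e).toEquiv,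
      Cfsg.Agent.S0813.result (F := F) 2 2 (by omega) hq 2 le_rfl (fun _ => by norm_num),
      if_pos rfl, one_mul, Block.Zas.card_PGL_two, hq]
    norm_num
  have h : M.index ∣ 2 := by
    refine Nat.dvd_of_mul_dvd_mul_right (Nat.card_pos (α := M)) ?_
    rw [show 2 * Nat.card M = 2 * 60 by rw [hMc], ← hAut, mul_comm, M.card_mul_index]
    exact card_dvd_of_injective _ hinj
  rcases (Nat.dvd_prime Nat.prime_two).1 h with h1 | h1
  · exact h1
  · rw [h1] at hidx; exact absurd hidx (by decide)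

/-- The kinds of socle. -/
theorem socle_cases (hub : JankoWard.WardHub.{u}) (h : PConj G) (hel : Cfsg.IsElementaryAbelian 2 (S : Subgroup G))
    (hO : Cfsg.oddCore G = ⊥) (hnn : ¬ (S : Subgroup G).Normal) {r : ℕ} (hcard : Nat.card (S : Subgroup G) = 2 ^ r) :
    (3 ≤ r ∧ (Nonempty (G ≃* ProjectiveSpecialLinearGroup (Fin 2) (GaloisField 2 3)) ∨
        Nonempty (G ≃* MulAut (ProjectiveSpecialLinearGroup (Fin 2) (GaloisField 2 5))))) ∨
    (r = 3 ∧ Cfsg.IsJ1 G) ∨
    (OddList G ∧ ∃ (F : Type) (_ : Field F) (_ : Fintype F), Odd (Fintype.card F) ∧ 5 ≤ Fintype.card F ∧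
      Nonempty (G ≃* ProjectiveSpecialLinearGroup (Fin 2) F)) := by
  haveI : Fact (Nat.Prime 2) := ⟨Nat.prime_two⟩
  haveI : Fact (Nat.Prime 3) := ⟨Nat.prime_three⟩
  obtain ⟨M, hMn, hMs, hMc, hSM, hidx, hC⟩ := exists_socle h hel hO hnn
  haveI := hMn
  haveI := hMs
  let T : Sylow 2 M := S.subtype hSM
  have hTcard : Nat.card (T : Subgroup M) = 2 ^ r :=
    (Nat.card_congr (subgroupOfEquivOfLe hSM).toEquiv).trans hcard
  have hTc : IsMulCommutative (T : Subgroup M) := ⟨⟨fun a b => Subtype.ext (Subtype.ext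
    (congrArg Subtype.val (hel.1.is_comm.comm ⟨(a : M), a.2⟩ ⟨(b : M), b.2⟩) :))⟩⟩
  rcases trichotomy hMc (ThreeFree.two_dvd_card hMc) T hTc with
    ⟨F, i, j, n, hn, hF, ⟨e⟩⟩ | ⟨F, i, j, hodd, h5, h8, ⟨e⟩⟩ | ⟨h8, hE, hJ⟩
  · have hnr : n = r := by
      have hMcard : Nat.card M = 2 ^ n * ((2 ^ n - 1) * (2 ^ n + 1)) := by
        rw [Nat.card_congr e.toEquiv,
          GW.HallNumbers.card_psl_two_pow (by rw [hF]; exact Nat.even_pow.2 ⟨even_two, by omega⟩), hF]
      apply Nat.pow_right_injective le_rfl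
      show 2 ^ n = 2 ^ r
      refine Nat.dvd_antisymm (hTcard ▸ T.pow_dvd_card_of_pow_dvd_card (hMcard ▸ dvd_mul_right _ _)) ?_
      have h1 : 2 ^ r ∣ 2 ^ n * ((2 ^ n - 1) * (2 ^ n + 1)) := hMcard ▸ hTcard ▸ card_subgroup_dvd_card _
      refine Nat.Coprime.dvd_of_dvd_mul_right ?_ h1
      refine Nat.Coprime.pow_left r (Nat.coprime_two_left.2 (Nat.odd_mul.2 ⟨?_, ?_⟩))
      · exact Nat.Even.sub_odd (Nat.one_le_two_pow) (Nat.even_pow.2 ⟨even_two, by omega⟩) odd_one
      · exact (Nat.even_pow.2 ⟨even_two, by omega⟩).add_one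
    subst hnr
    rcases Nat.lt_or_ge n 3 with hlt | hge
    · obtain rfl : n = 2 := by omega
      haveI : Fact (Nat.Prime 5) := ⟨by norm_num⟩
      obtain ⟨f⟩ := four_socle hMn hidx hC hF e
      exact Or.inr (Or.inr ⟨⟨5, inferInstance, Or.inr (by norm_num), Or.inl ⟨f⟩⟩,
        ZMod 5, inferInstance, inferInstance, by rw [ZMod.card]; decide, by rw [ZMod.card], ⟨f⟩⟩)
    · exact Or.inl ⟨hge, two_socle h hel hMn hidx hC hge hcard hF e⟩
  · obtain ⟨p, hp, hp8, -, ⟨hq, ⟨f⟩⟩ | ⟨hq, ⟨f⟩⟩⟩ := odd_socle h hMn hidx hC h5 h8 e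
    · letI : Fintype (ZMod p) := ZMod.fintype p
      exact Or.inr (Or.inr ⟨⟨p, hp, hp8, Or.inl ⟨f⟩⟩, ZMod p, inferInstance, inferInstance,
        by rw [ZMod.card, ← hq]; exact hodd, by rw [ZMod.card, ← hq]; exact h5, ⟨f⟩⟩)
    · letI : Fintype (GaloisField p 3) := Fintype.ofFinite _
      have hcg : Fintype.card (GaloisField p 3) = Fintype.card F := by
        rw [hq, ← Nat.card_eq_fintype_card, GaloisField.card p 3 (by norm_num)]
      exact Or.inr (Or.inr ⟨⟨p, hp, hp8, Or.inr ⟨f⟩⟩, GaloisField p 3, inferInstance, inferInstance,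
        hcg ▸ hodd, hcg ▸ h5, ⟨f⟩⟩)
  · have hr3 : r = 3 := Nat.pow_right_injective le_rfl (hTcard.symm.trans h8)
    rcases ree_or_j1 hub hMc T h8 hE hJ with ⟨hree, -⟩ | ⟨hj, hj'⟩
    · exfalso
      obtain ⟨x, u, hx, hu, ⟨k, hk⟩, hnon⟩ := ree_three hree
      have hz : ∀ z : ↥M, orderOf z = 3 → IsPGroup 3 (zpowers (z : G)) := fun z hz =>
        IsPGroup.of_card (n := 1) (by rw [Nat.card_zpowers, Subgroup.orderOf_coe, hz, pow_one])
      obtain ⟨g, hg⟩ := h 3 Nat.prime_three (zpowers (x : G)) (zpowers (u : G)) (hz x hx) (hz u hu)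
        (by rw [Nat.card_zpowers, Nat.card_zpowers, Subgroup.orderOf_coe, Subgroup.orderOf_coe, hx, hu])
      obtain ⟨y, hy, hyu⟩ : (u : G) ∈ (zpowers (x : G)).map (MulAut.conj g).toMonoidHom := hg ▸ mem_zpowers _
      obtain ⟨m, rfl⟩ := mem_zpowers_iff.1 hy
      refine hnon (MulAut.conjNormal g k) (Subtype.ext ?_)
      simp only [MulEquiv.toMonoidHom_eq_coe, MonoidHom.coe_coe, MulAut.conj_apply] at hyu
      simp only [Subgroup.coe_mul, Subgroup.coe_inv, MulAut.conjNormal_apply]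
      have hk' : (k : G) * x * (k : G)⁻¹ = (x : G)⁻¹ := by simpa using congrArg Subtype.val hk
      have hpow : (k : G) * (x : G) ^ m * (k : G)⁻¹ = ((x : G) ^ m)⁻¹ := by
        rw [← MulAut.conj_apply, map_zpow, MulAut.conj_apply, hk', _root_.inv_zpow]
      calc g * k * g⁻¹ * u * (g * k * g⁻¹)⁻¹ = g * ((k : G) * (x : G) ^ m * (k : G)⁻¹) * g⁻¹ := by
            rw [← hyu]; group
        _ = (u : G)⁻¹ := by rw [hpow, ← hyu]; group
    · have hi := top_of_j1 hC hj
      obtain ⟨e⟩ := ConjSub.top_of_index_one hi (MulEquiv.refl M)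
      haveI : IsSimpleGroup G :=
        haveI : Nontrivial G := e.toEquiv.nontrivial
        IsSimpleGroup.isSimpleGroup_of_surjective e.symm.toMonoidHom e.symm.surjective
      exact Or.inr (Or.inl ⟨hr3, inferInstance, (Nat.card_congr e.toEquiv).trans hj'.2⟩)

/-- Elementary abelian Sylow 2-subgroups. -/
theorem elementary_cases (hub : JankoWard.WardHub.{u}) (h : PConj G)
    (hel : Cfsg.IsElementaryAbelian 2 (S : Subgroup G))
    (hO : Cfsg.oddCore G = ⊥) {r : ℕ} (hr : 2 ≤ r) (hcard : Nat.card (S : Subgroup G) = 2 ^ r) :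
    Nonempty (G ≃* Cfsg.affineGroup (GaloisField 2 3)) ∨
    Nonempty (G ≃* Cfsg.semiaffineGroup (GaloisField 2 3)) ∨
    Nonempty (G ≃* Cfsg.semiaffineGroup (GaloisField 2 5)) ∨
    Cfsg.IsJ1 G ∨
    Nonempty (G ≃* ProjectiveSpecialLinearGroup (Fin 2) (GaloisField 2 3)) ∨
    Nonempty (G ≃* MulAut (ProjectiveSpecialLinearGroup (Fin 2) (GaloisField 2 5))) ∨
    OddList G := by
  haveI : Fact (Nat.Prime 2) := ⟨Nat.prime_two⟩
  by_cases hn : (S : Subgroup G).Normal
  swap
  · rcases socle_cases hub h hel hO hn hcard with ⟨-, h1 | h1⟩ | ⟨-, h1⟩ | ⟨h1, -⟩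
    · exact Or.inr (Or.inr (Or.inr (Or.inr (Or.inl h1))))
    · exact Or.inr (Or.inr (Or.inr (Or.inr (Or.inr (Or.inl h1)))))
    · exact Or.inr (Or.inr (Or.inr (Or.inl h1)))
    · exact Or.inr (Or.inr (Or.inr (Or.inr (Or.inr (Or.inr h1)))))
  rcases Nat.lt_or_ge r 3 with hlt | hge
  · obtain rfl : r = 2 := by omega
    obtain ⟨e⟩ := normal_four h hel hO hn (by rw [hcard]; norm_num)
    haveI : Fact (Nat.Prime 3) := ⟨Nat.prime_three⟩
    obtain ⟨e'⟩ := PSLBin.psl_three_iso (E := ZMod 3) (ZMod.card 3)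
    exact Or.inr (Or.inr (Or.inr (Or.inr (Or.inr (Or.inr
      ⟨3, inferInstance, Or.inl (by norm_num), Or.inl ⟨e.trans e'.symm⟩⟩)))))
  set N := normalizer ((S : Subgroup G) : Set G) with hN
  haveI := ConjSub.isSolvable_normalizer (S := S) hel.1
  haveI hKn : (Cfsg.pPrimeCore 2 ↥N).Normal := Grp.pPrimeCore_isNormal
  have h25 := Cfsg.Agent.S4025.result (p := 2) (h 2 Nat.prime_two) S r hge hel hcard N hN inferInstance
  have htop : N = ⊤ := normalizer_eq_top_iff.2 hn
  let eN : ↥N ≃* G := (MulEquiv.subgroupCongr htop).trans topEquiv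
  have hK : Cfsg.pPrimeCore 2 ↥N = ⊥ := by
    refine (Subgroup.map_eq_bot_iff_of_injective _ (f := eN.toMonoidHom) eN.injective).1 (le_bot_iff.1 ?_)
    refine le_trans (Grp.le_pPrimeCore (p := 2) (hKn.map _ eN.surjective) ?_) hO.le
    rw [card_map_of_injective (f := eN.toMonoidHom) eN.injective]
    exact Grp.pPrimeCore_coprime
  let eK : ↥N ⧸ Cfsg.pPrimeCore 2 ↥N ≃* G :=
    ((QuotientGroup.quotientMulEquivOfEq hK).trans QuotientGroup.quotientBot).trans eN
  rcases h25 with ⟨-, -, h8⟩ | ⟨-, -, ⟨e⟩⟩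
  · rcases h8 rfl with ⟨⟨e⟩⟩ | ⟨⟨e⟩⟩
    · exact Or.inr (Or.inl ⟨eK.symm.trans e⟩)
    · exact Or.inl ⟨eK.symm.trans e⟩
  · exact Or.inr (Or.inr (Or.inl ⟨eK.symm.trans e⟩))

end Cfsg.Agent.Invol.AbelTwo.EqualP
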