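import Cfsg.Agent.Lib.Invol.AbelTwo.ReeAbel.Psl

/-!
# The unipotent subgroup of `L2(q)`, `q` odd
-/

set_option autoImplicit false
set_option linter.unusedSectionVars false
set_option linter.style.haveILetI false

namespace Cfsg.Agent.Invol.AbelTwo.EqualP

open Subgroup
open Cfsg.Agent.Grp.SL2 Cfsg.Agent.PSL2Spec Cfsg.Agent.Dickson
open Cfsg.Agent.Invol.AbelTwo.ReeAbel (upH upH_coe)
open scoped _root_.Classical

variable {F : Type} [Field F] [Fintype F]

local notation "SL₂" => Matrix.SpecialLinearGroup (Fin 2) F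
local notation "PSL₂" => Matrix.ProjectiveSpecialLinearGroup (Fin 2) F

/-- An elementary abelian subgroup of order `q` with solvable normaliser. -/
theorem exists_unip {p : ℕ} [Fact p.Prime] [CharP F p] (hodd : Odd (Fintype.card F)) :
    ∃ U : Subgroup PSL₂, Nat.card ↥U = Fintype.card F ∧ (∀ u ∈ U, u ^ p = 1) ∧
      Group.IsSolvable ↥(normalizer (U : Set PSL₂)) := by
  have h2F : (2 : F) ≠ 0 := two_ne_zero_of_odd_card hodd
  let φ : Multiplicative F →* PSL₂ := proj.comp upH
  have hinj : Function.Injective φ := (injective_iff_map_eq_one φ).2 fun t ht => by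
    obtain ⟨c, -, hm⟩ := (proj_eq_one_iff _).1 ht
    have h := congrFun (congrFun hm 0) 1
    rw [upH_coe] at h
    simpa using h
  refine ⟨φ.range, ?_, ?_, ?_⟩
  · rw [← Nat.card_congr (MonoidHom.ofInjective hinj).toEquiv, Nat.card_congr Multiplicative.toAdd,
      Nat.card_eq_fintype_card]
  · rintro _ ⟨t, rfl⟩
    rw [← map_pow, show t ^ p = 1 from Multiplicative.toAdd.injective (by simp [CharP.cast_eq_zero]), map_one]
  set N := normalizer (φ.range : Set PSL₂)
  -- the normaliser is triangular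
  have htri : ∀ x ∈ N, ∃ A : SL₂, proj A = x ∧ (A : Matrix (Fin 2) (Fin 2) F) 1 0 = 0 := by
    intro x hx
    obtain ⟨A, rfl⟩ := proj_surjective x
    refine ⟨A, rfl, ?_⟩
    obtain ⟨t, ht⟩ := (mem_normalizer_iff.1 hx _).1 ⟨Multiplicative.ofAdd 1, rfl⟩
    have h : proj ((upH t * A)⁻¹ * (A * upH (Multiplicative.ofAdd 1))) = 1 := by
      rw [map_mul, map_inv, map_mul, map_mul, inv_mul_eq_one]
      simp only [φ, MonoidHom.coe_comp, Function.comp_apply] at ht
      rw [ht, inv_mul_cancel_right]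
    obtain ⟨c, hc, hm⟩ := (proj_eq_one_iff _).1 h
    have hm' : (A : Matrix (Fin 2) (Fin 2) F) * !![1, 1; 0, 1] =
        c • (!![1, Multiplicative.toAdd t; 0, 1] * (A : Matrix (Fin 2) (Fin 2) F)) := by
      have h' := congrArg (fun M => ((upH t * A : SL₂) : Matrix (Fin 2) (Fin 2) F) * M) hm
      simp only [← Matrix.SpecialLinearGroup.coe_mul, mul_inv_cancel_left] at h'
      rw [Matrix.SpecialLinearGroup.coe_mul, Matrix.SpecialLinearGroup.coe_mul, upH_coe, upH_coe, mul_smul_comm,
        mul_one, toAdd_ofAdd] at h'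
      exact h'
    have e10 := congrFun (congrFun hm' 1) 0
    have e11 := congrFun (congrFun hm' 1) 1
    simp [Matrix.mul_apply, Fin.sum_univ_two, Matrix.vecMul, dotProduct] at e10 e11
    rcases sq_eq_one_iff.1 hc with rfl | rfl
    · linear_combination e11
    · have : (2 : F) * (A : Matrix (Fin 2) (Fin 2) F) 1 0 = 0 := by linear_combination e10
      exact (mul_eq_zero.1 this).resolve_left h2F
  have hcomm : ∀ x ∈ N, ∀ y ∈ N, x * y * x⁻¹ * y⁻¹ ∈ φ.range := by
    intro x hx y hy
    obtain ⟨A, rfl, hA⟩ := htri x hx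
    obtain ⟨B, rfl, hB⟩ := htri y hy
    have hdA := Cfsg.Agent.Grp.SL2.det_eq A
    have hdB := Cfsg.Agent.Grp.SL2.det_eq B
    rw [hA, mul_zero, sub_zero] at hdA
    rw [hB, mul_zero, sub_zero] at hdB
    refine ⟨Multiplicative.ofAdd ((A * B * A⁻¹ * B⁻¹ : SL₂).1 0 1), ?_⟩
    show proj (upH _) = _
    rw [← map_inv (proj (F := F)), ← map_inv (proj (F := F)), ← map_mul, ← map_mul, ← map_mul]
    refine congrArg proj (Subtype.ext ?_)
    rw [upH_coe, toAdd_ofAdd]
    rw [Matrix.SpecialLinearGroup.coe_mul, Matrix.SpecialLinearGroup.coe_mul, Matrix.SpecialLinearGroup.coe_mul,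
      Matrix.SpecialLinearGroup.coe_inv, Matrix.SpecialLinearGroup.coe_inv, Matrix.adjugate_fin_two,
      Matrix.adjugate_fin_two]
    ext i j
    fin_cases i <;> fin_cases j <;> simp [Matrix.mul_apply, Fin.sum_univ_two, hA, hB]
    · linear_combination (-(B.1 0 0 * B.1 1 1)) * hdA - hdB
    · linear_combination (-(B.1 0 0 * B.1 1 1)) * hdA - hdB
  refine ⟨⟨2, (Subgroup.eq_bot_iff_forall _).2 fun z hz => ?_⟩⟩
  -- the second derived subgroup is trivial
  have h1 : derivedSeries ↥N 1 ≤ φ.range.subgroupOf N := by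
    rw [derivedSeries_one, commutator_def, Subgroup.commutator_le]
    intro a _ b _
    rw [mem_subgroupOf, commutatorElement_def]
    exact hcomm a a.2 b b.2
  have h2 : derivedSeries ↥N 2 ≤ ⊥ := by
    rw [derivedSeries_succ, Subgroup.commutator_le]
    intro a ha b hb
    obtain ⟨s, hs⟩ := mem_subgroupOf.1 (h1 ha)
    obtain ⟨t, ht⟩ := mem_subgroupOf.1 (h1 hb)
    rw [mem_bot, commutatorElement_eq_one_iff_mul_comm]
    refine Subtype.ext ?_
    rw [Subgroup.coe_mul, Subgroup.coe_mul, ← hs, ← ht, ← map_mul, mul_comm, map_mul]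
  exact mem_bot.1 (h2 hz)

end Cfsg.Agent.Invol.AbelTwo.EqualP
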