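import Cfsg.Agent.Lib.Invol.AbelTwo.EqualP.Basic
import Cfsg.Agent.Lib.Invol.AbelTwo.EqualP.Unip

/-!
# Socle `L2(q)`, `q ≡ 3, 5` mod 8: then `q` is `p` or `p³` and the socle is everything
-/

set_option autoImplicit false
set_option linter.unusedSectionVars false
set_option linter.style.haveILetI false

namespace Cfsg.Agent.Invol.AbelTwo.EqualP

open Subgroup Matrix Cfsg.Agent.Classical Cfsg.Agent.Classical.PSLAut
open scoped _root_.Classical

universe u

/-- A field automorphism of order three is outer. -/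
theorem exists_outer_three {p : ℕ} [Fact p.Prime] {F : Type} [Field F] [Fintype F]
    (hF : Fintype.card F = p ^ 3) :
    ∃ β : MulAut (ProjectiveSpecialLinearGroup (Fin 2) F), β ^ 3 = 1 ∧ ∀ a, β ≠ MulAut.conj a := by
  haveI : Fact (Nat.Prime 3) := ⟨Nat.prime_three⟩
  haveI : Finite (RingAut F) := Nat.finite_of_card_ne_zero (by rw [(card_ringAut hF).2]; norm_num)
  obtain ⟨σ, hσ⟩ := exists_prime_orderOf_dvd_card' (G := RingAut F) 3 (by rw [(card_ringAut hF).2])
  let f : RingAut F →* MulAut (ProjectiveSpecialLinearGroup (Fin 2) F) :=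
    { toFun := fun τ => pslSemi 1 τ
      map_one' := pslSemi_one
      map_mul' := fun a b => by rw [pslSemi_mul, map_one, mul_one]; rfl }
  refine ⟨f σ, by rw [← map_pow, ← hσ, pow_orderOf_eq_one, map_one], fun a ha => ?_⟩
  obtain ⟨s, rfl⟩ := slToPSL_surjective a
  rw [conj_eq_pslSemi] at ha
  have h1 : pslSemi (Matrix.SpecialLinearGroup.toGL s)⁻¹ σ =
      (1 : MulAut (ProjectiveSpecialLinearGroup (Fin 2) F)) := by
    rw [← mul_one (Matrix.SpecialLinearGroup.toGL s)⁻¹, ← pslSemi_refl_mul, show pslSemi 1 σ = f σ from rfl,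
      ha, ← pslSemi_refl_inv, inv_mul_cancel]
  have h2 := ((pslSemi_eq_one_iff le_rfl).1 h1).1
  rw [show σ = 1 from h2, orderOf_one] at hσ
  norm_num at hσ

variable {G : Type u} [Group G] [Finite G]

theorem odd_socle (h : PConj G) {M : Subgroup G} (hMn : M.Normal) (hidx : Odd M.index)
    (hC : centralizer (M : Set G) = ⊥) {F : Type} [Field F] [Fintype F] (h5 : 5 ≤ Fintype.card F)
    (h8 : Fintype.card F % 8 = 3 ∨ Fintype.card F % 8 = 5)
    (e : ↥M ≃* ProjectiveSpecialLinearGroup (Fin 2) F) :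
    ∃ (p : ℕ) (_ : Fact p.Prime), (p % 8 = 3 ∨ p % 8 = 5) ∧ 5 ≤ Fintype.card F ∧
      ((Fintype.card F = p ∧ Nonempty (G ≃* ProjectiveSpecialLinearGroup (Fin 2) (ZMod p))) ∨
        (Fintype.card F = p ^ 3 ∧ Nonempty (G ≃* ProjectiveSpecialLinearGroup (Fin 2) (GaloisField p 3)))) := by
  haveI := hMn
  obtain ⟨p, hchar⟩ := CharP.exists F
  haveI : Fact p.Prime := ⟨CharP.char_is_prime F p⟩
  obtain ⟨⟨f, hf0⟩, -, hF⟩ := FiniteField.card F p
  change Fintype.card F = p ^ f at hF
  have hodd : Odd (Fintype.card F) := Nat.odd_iff.2 (by omega)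
  have hp2 : p ≠ 2 := by
    rintro rfl
    rw [hF] at hodd
    exact Nat.not_even_iff_odd.2 hodd (Nat.even_pow.2 ⟨even_two, by omega⟩)
  -- the exponent is odd
  obtain ⟨k, hk⟩ : Odd f := by
    refine Nat.not_even_iff_odd.1 fun ⟨k, hk⟩ => ?_
    subst hk
    have hpo : Odd (p ^ k) := ((Fact.out : p.Prime).odd_of_ne_two hp2).pow
    obtain ⟨c, hc⟩ := hpo
    rw [hF, pow_add, hc] at h8
    obtain ⟨d, hd⟩ : 2 ∣ c * (c + 1) := even_iff_two_dvd.1 (Nat.even_mul_succ_self c)
    have : (2 * c + 1) * (2 * c + 1) = 8 * d + 1 := by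
      have : (2 * c + 1) * (2 * c + 1) = 4 * (c * (c + 1)) + 1 := by ring
      rw [this, hd]; ring
    omega
  have hp8 : p % 8 = 3 ∨ p % 8 = 5 := by
    have hp1 : p % 2 = 1 := Nat.odd_iff.1 ((Fact.out : p.Prime).odd_of_ne_two hp2)
    have hpsq : p ^ 2 % 8 = 1 := by
      rw [Nat.pow_mod]
      have h8' : p % 8 < 8 := Nat.mod_lt _ (by norm_num)
      have h2' : p % 8 % 2 = 1 := by omega
      interval_cases hh : p % 8 <;> simp_all
    rw [hF, hk, pow_succ, pow_mul, Nat.mul_mod, Nat.pow_mod, hpsq, one_pow] at h8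
    simpa using h8
  have hMcard : Nat.card ↥M * 2 = Fintype.card F * (Fintype.card F ^ 2 - 1) := by
    rw [mul_comm, Nat.card_congr e.toEquiv, Invol.GW.card_PSLTwo hodd,
      show Fintype.card F ^ 2 - 1 = (Fintype.card F - 1) * (Fintype.card F + 1) by
        rw [mul_comm]; simpa using Nat.sq_sub_sq (Fintype.card F) 1]
  -- the automorphism group
  have hAut : Nat.card (MulAut ↥M) = 2 * f * Nat.card ↥M := by
    rw [Nat.card_congr (MulAut.congr e).toEquiv,
      Cfsg.Agent.S0813.result (F := F) p f (by omega) hF 2 le_rfl (fun _ => by omega),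
      if_pos rfl, one_mul, Block.Zas.card_PGL_two]
    rw [show Fintype.card F ^ 2 - 1 = (Fintype.card F + 1) * (Fintype.card F - 1) by
      simpa using Nat.sq_sub_sq (Fintype.card F) 1] at hMcard
    calc f * ((Fintype.card F + 1) * (Fintype.card F * (Fintype.card F - 1))) =
        f * (Nat.card ↥M * 2) := by rw [hMcard]; ring
      _ = _ := by ring
  have hinj : Function.Injective (MulAut.conjNormal : G →* MulAut M) := by
    refine (injective_iff_map_eq_one _).2 fun g hg => mem_bot.1 (hC ▸ mem_centralizer_iff.2 fun m hm => ?_)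
    have := congrArg (fun f : MulAut M => ((f ⟨m, hm⟩ : M) : G)) hg
    simp only [MulAut.conjNormal_apply, MulAut.one_apply] at this
    exact (mul_inv_eq_iff_eq_mul.1 this).symm
  haveI : Finite (MulAut M) := Finite.of_injective (fun f : MulAut M => (f : M → M)) DFunLike.coe_injective
  have hdvd : M.index ∣ f := by
    have h1 : M.index ∣ 2 * f := by
      refine Nat.dvd_of_mul_dvd_mul_right (Nat.card_pos (α := M)) ?_
      rw [← hAut, mul_comm, M.card_mul_index]
      exact card_dvd_of_injective _ hinj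
    exact (Nat.coprime_two_right.2 hidx).dvd_of_dvd_mul_left h1
  -- the exponent is at most three
  have hf3 : f ≤ 3 := by
    by_contra hf
    obtain ⟨U0, hU0c, hU0p, hU0N⟩ := exists_unip (F := F) (p := p) hodd
    set U := (U0.map e.symm.toMonoidHom).map M.subtype with hU
    have hUc : Nat.card ↥U = p ^ f := by
      rw [hU, card_map_of_injective M.subtype_injective, card_map_of_injective e.symm.injective, hU0c, hF]
    have hUM : U ≤ M := map_subtype_le _
    have hUpow : ∀ u ∈ U, u ^ p = 1 := by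
      rintro _ ⟨_, ⟨a, ha, rfl⟩, rfl⟩
      rw [← map_pow, ← map_pow, hU0p a ha, map_one, map_one]
    obtain ⟨P, hP⟩ := (IsPGroup.of_card (n := f) hUc : IsPGroup p U).exists_le_sylow
    have hel : Cfsg.IsElementaryAbelian p (P : Subgroup G) := by
      rcases Cfsg.Agent.S4020.result h P with hc | he | hq
      · exfalso
        haveI := hc
        haveI : IsCyclic ↥U := isCyclic_of_injective (inclusion hP) (inclusion_injective hP)
        obtain ⟨c, hc'⟩ := IsCyclic.exists_monoid_generator (α := ↥U)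
        have hord : orderOf c = p ^ f := by rw [orderOf_eq_card_of_forall_mem_powers hc', hUc]
        have h1 : orderOf c ∣ p := orderOf_dvd_of_pow_eq_one (Subtype.ext (by simpa using hUpow c c.2))
        rw [hord] at h1
        have h2 := Nat.le_of_dvd (Fact.out : p.Prime).pos h1
        have h3 : p ^ 2 ≤ p ^ f := Nat.pow_le_pow_right (Fact.out : p.Prime).pos (by omega)
        have := (Fact.out : p.Prime).two_le
        nlinarith
      · exact he
      · exfalso
        obtain ⟨eq⟩ := hq
        have h1 : p ^ f ∣ 2 ^ 3 := by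
          have := (hUc ▸ card_dvd_of_le hP)
          rwa [Nat.card_congr eq.toEquiv, Nat.card_eq_fintype_card, QuaternionGroup.card] at this
        exact hp2 ((Nat.prime_dvd_prime_iff_eq (Fact.out : p.Prime) Nat.prime_two).1
          ((Fact.out : p.Prime).dvd_of_dvd_pow ((dvd_pow_self p (by omega)).trans h1)))
    obtain ⟨n, hn⟩ := P.isPGroup'.exists_card_eq
    have hfn : f ≤ n := by
      have := hUc ▸ hn ▸ card_dvd_of_le hP
      exact (Nat.pow_dvd_pow_iff_le_right (Fact.out : p.Prime).one_lt).1 this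
    set N := normalizer ((P : Subgroup G) : Set G) with hN
    -- `N` normalises `U = P ∩ M`
    have hUeq : (P : Subgroup G) ⊓ M = U := by
      refine (eq_of_le_of_card_ge (le_inf hP hUM) ?_).symm
      obtain ⟨j, hj⟩ := (P.isPGroup'.to_le (inf_le_left : (P : Subgroup G) ⊓ M ≤ P)).exists_card_eq
      have h1 : p ^ j ∣ Nat.card ↥M * 2 := (hj ▸ card_dvd_of_le inf_le_right).mul_right 2
      rw [hMcard, hF] at h1
      have hcop : (p ^ j).Coprime ((p ^ f) ^ 2 - 1) := by
        refine Nat.Coprime.pow_left j (((Fact.out : p.Prime).coprime_iff_not_dvd).2 fun hd => ?_)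
        have h2 : p ∣ (p ^ f) ^ 2 := dvd_pow (dvd_pow_self p (by omega)) (by norm_num)
        have h3 := Nat.dvd_sub h2 hd
        rw [Nat.sub_sub_self (Nat.one_le_pow _ _ (pow_pos (Fact.out : p.Prime).pos f))] at h3
        exact (Fact.out : p.Prime).one_lt.ne' (Nat.dvd_one.1 h3)
      rw [hj, hUc]
      exact Nat.le_of_dvd (pow_pos (Fact.out : p.Prime).pos f) (hcop.dvd_of_dvd_mul_right h1)
    haveI : Group.IsSolvable ↥(M.subgroupOf N) := by
      let φ : ↥(M.subgroupOf N) →* ProjectiveSpecialLinearGroup (Fin 2) F :=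
        e.toMonoidHom.comp ((N.subtype.comp (M.subgroupOf N).subtype).codRestrict M fun x => x.2)
      have hφ : Function.Injective φ := fun a b hab =>
        Subtype.ext (Subtype.ext (congrArg (fun z : ↥M => (z : G)) (e.injective hab)))
      have hrange : φ.range ≤ normalizer (U0 : Set (ProjectiveSpecialLinearGroup (Fin 2) F)) := by
        rintro _ ⟨x, rfl⟩
        have key : ∀ g ∈ N, ∀ hg : g ∈ M, ∀ a ∈ U0, e ⟨g, hg⟩ * a * (e ⟨g, hg⟩)⁻¹ ∈ U0 := by
          intro g hgN hg a ha
          have hmem : g * ((e.symm a : ↥M) : G) * g⁻¹ ∈ U := by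
            have haU : ((e.symm a : ↥M) : G) ∈ U := ⟨_, ⟨a, ha, rfl⟩, rfl⟩
            rw [← hUeq] at haU ⊢
            exact ⟨(mem_normalizer_iff.1 hgN _).1 haU.1, hMn.conj_mem _ haU.2 g⟩
          obtain ⟨_, ⟨b, hb, rfl⟩, hbe⟩ := hmem
          have he : e.symm (e ⟨g, hg⟩ * a * (e ⟨g, hg⟩)⁻¹) = e.symm b := Subtype.ext (by
            rw [map_mul, map_mul, map_inv, e.symm_apply_apply]
            exact hbe.symm)
          rw [e.symm.injective he]
          exact hb
        show e ⟨(x.1 : G), x.2⟩ ∈ _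
        refine mem_normalizer_iff.2 fun a => ⟨key _ x.1.2 x.2 a, fun ha => ?_⟩
        have h' := key _ (N.inv_mem x.1.2) (M.inv_mem x.2) _ ha
        rw [show (⟨((x.1 : G))⁻¹, M.inv_mem x.2⟩ : ↥M) = (⟨(x.1 : G), x.2⟩ : ↥M)⁻¹ from rfl, map_inv] at h'
        convert h' using 1
        group
      haveI := hU0N
      exact Group.isSolvable_of_isSolvable_injective (f := φ.codRestrict _ fun x => hrange ⟨x, rfl⟩)
        fun a b hab => hφ (congrArg Subtype.val hab)
    have hsolv : Group.IsSolvable ↥N := by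
      haveI : Group.IsSolvable (↥N ⧸ M.subgroupOf N) := by
        refine Cfsg.Agent.S0205.result ?_
        refine Odd.of_dvd_nat hidx ?_
        rw [← index_eq_card]
        exact relIndex_dvd_index_of_normal M N
      exact (Group.isSolvable_iff_subgroup_quotient (M.subgroupOf N)).2 ⟨inferInstance, inferInstance⟩
    haveI := hsolv
    haveI hKn : (Cfsg.pPrimeCore p ↥N).Normal := Grp.pPrimeCore_isNormal
    rcases Cfsg.Agent.S4025.result (p := p) (h p Fact.out) P n (by omega) hel hn N hN inferInstance with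
      ⟨h3, -⟩ | ⟨-, hp, -⟩
    · omega
    · exact hp2 hp
  refine ⟨p, inferInstance, hp8, h5, ?_⟩
  obtain rfl | rfl : f = 1 ∨ f = 3 := by omega
  · rw [Nat.dvd_one, index_eq_one] at hdvd
    letI : Fintype (ZMod p) := ZMod.fintype p
    obtain ⟨e'⟩ := Block.OrdP.psl_congr' (n := 2) (FiniteField.ringEquivOfCardEq
      (show Fintype.card F = Fintype.card (ZMod p) by rw [hF, pow_one, ZMod.card]))
    exact Or.inl ⟨by rw [hF, pow_one],
      ⟨(Subgroup.topEquiv.symm.trans (MulEquiv.subgroupCongr hdvd.symm)).trans (e.trans e')⟩⟩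
  · refine Or.inr ⟨hF, ?_⟩
    have hi : M.index = 1 := by
      refine ((Nat.dvd_prime Nat.prime_three).1 hdvd).resolve_right fun hi => ?_
      obtain ⟨β, hβ, hout⟩ := exists_outer_three hF
      set R := (MulAut.conjNormal : G →* MulAut M).range
      have hR2 : R.index = 2 := by
        have h1 := R.card_mul_index
        rw [← Nat.card_congr (MonoidHom.ofInjective hinj).toEquiv, hAut, ← M.card_mul_index, hi] at h1
        exact Nat.eq_of_mul_eq_mul_left (Nat.mul_pos Nat.card_pos (by norm_num : 0 < 3))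
          (h1.trans (by ring))
      haveI : R.Normal := normal_of_index_eq_two hR2
      set γ := (MulAut.congr e).symm β
      have hγ : γ ^ 3 = 1 := by rw [← map_pow, hβ, map_one]
      have hγR : γ ∈ R := by
        have h2 : γ ^ 2 ∈ R := hR2 ▸ pow_index_mem R γ
        have : γ = (γ ^ 2) ^ 2 := by rw [← pow_mul, show 2 * 2 = 3 + 1 from rfl, pow_succ, hγ, one_mul]
        rw [this]; exact pow_mem h2 _
      obtain ⟨g, hg⟩ := hγR
      haveI : Fact (Nat.Prime 3) := ⟨Nat.prime_three⟩
      have hg1 : g ≠ 1 := fun h1 => by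
        rw [h1, map_one] at hg
        refine hout 1 ?_
        rw [map_one, ← (MulAut.congr e).apply_symm_apply β, show (MulAut.congr e).symm β = γ from rfl, ← hg, map_one]
      have hg3 : g ^ 3 = 1 := hinj (by rw [map_pow, hg, hγ, map_one])
      have h3M : 3 ∣ Nat.card ↥M := by
        have hd : 3 ∣ Nat.card ↥M * 2 := by
          rw [hMcard]
          by_cases hq3 : 3 ∣ Fintype.card F
          · exact hq3.mul_right _
          · refine dvd_mul_of_dvd_right ?_ _
            set q := Fintype.card F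
            have : q % 3 = 1 ∨ q % 3 = 2 := by omega
            have hsq : q ^ 2 % 3 = 1 := by rw [Nat.pow_mod]; rcases this with h | h <;> rw [h] <;> norm_num
            omega
        exact (Nat.Coprime.dvd_of_dvd_mul_right (by norm_num) hd)
      obtain ⟨m, hm⟩ := exists_prime_orderOf_dvd_card' (G := M) 3 h3M
      have hgM : g ∈ M := h.mem_normal hMn Nat.prime_three (orderOf_eq_prime hg3 hg1)
        (by rw [Subgroup.orderOf_coe, hm]) m.2
      refine hout (e ⟨g, hgM⟩) ?_
      rw [← (MulAut.congr e).apply_symm_apply β, show (MulAut.congr e).symm β = γ from rfl, ← hg]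
      refine MulEquiv.ext fun y => ?_
      show e (MulAut.conjNormal g (e.symm y)) = e ⟨g, hgM⟩ * y * (e ⟨g, hgM⟩)⁻¹
      conv_rhs => rw [← e.apply_symm_apply y, ← map_mul, ← map_inv, ← map_mul]
      exact congrArg e (Subtype.ext (MulAut.conjNormal_apply (H := M) _ _))
    letI : Fintype (GaloisField p 3) := Fintype.ofFinite _
    obtain ⟨e'⟩ := Block.OrdP.psl_congr' (n := 2) (FiniteField.ringEquivOfCardEq
      (show Fintype.card F = Fintype.card (GaloisField p 3) by
        rw [hF, ← Nat.card_eq_fintype_card, GaloisField.card p 3 (by norm_num)]))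
    exact ConjSub.top_of_index_one hi (e.trans e')

end Cfsg.Agent.Invol.AbelTwo.EqualP
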